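import Mathlib.RingTheory.Ideal.KrullsHeightTheorem
import Mathlib.RingTheory.Nakayama
import Mathlib.LinearAlgebra.FiniteDimensional.Lemmas

/-! An element of a two-dimensional maximal ideal leaves `m` independent functions modulo `n ^ m`. -/

set_option autoImplicit false

universe u v

namespace Groth.Agent.LC17.SurfMult

variable {k : Type v} [Field k] {B : Type u} [CommRing B] [Algebra k B]

theorem not_pow_le_pow_succ_sup [IsDomain B] [IsNoetherianRing B] (n I : Ideal B) [hn : n.IsPrime] [hI : I.IsPrime]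
    (hbot : I ≠ ⊥) (hlt : I < n) {g : B} (hg : g ∈ n) (i : ℕ) :
    ¬ n ^ i ≤ n ^ (i + 1) ⊔ Ideal.span {g} := by
  intro hle
  let π := Ideal.Quotient.mk (Ideal.span {g})
  have hq : (n.map π) ^ i ≤ n.map π • (n.map π) ^ i := by
    rw [smul_eq_mul, ← pow_succ', ← Ideal.map_pow, ← Ideal.map_pow]
    refine (Ideal.map_mono hle).trans ?_
    rw [Ideal.map_sup, Ideal.map_quotient_self, sup_bot_eq]
  obtain ⟨e, he, hkill⟩ := Submodule.exists_sub_one_mem_and_smul_eq_zero_of_fg_of_le_smul (n.map π) ((n.map π) ^ i)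
    (IsNoetherian.noetherian _) hq
  obtain ⟨e', rfl⟩ := Ideal.Quotient.mk_surjective e
  obtain ⟨d, hd, hde⟩ := (Ideal.mem_map_iff_of_surjective π Ideal.Quotient.mk_surjective).1 he
  have hd1 : e' - 1 - d ∈ Ideal.span ({g} : Set B) := by
    rw [← Ideal.Quotient.eq]
    simpa [π] using hde.symm
  have hgn : Ideal.span ({g} : Set B) ≤ n := (Ideal.span_singleton_le_iff_mem _).2 hg
  have he1 : e' ∉ n := fun h => hn.ne_top ((Ideal.eq_top_iff_one n).2 (by
    have h3 := n.sub_mem (n.sub_mem h (hgn hd1)) hd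
    rwa [show e' - (e' - 1 - d) - d = (1 : B) by ring] at h3))
  obtain ⟨p, hp, hpn⟩ := Ideal.exists_minimalPrimes_le hgn
  have hnp : n ≤ p := by
    haveI := hp.1.1
    refine Ideal.IsPrime.le_of_pow_le (n := i) fun x hx => ?_
    have hxe : e' * x ∈ Ideal.span ({g} : Set B) := by
      rw [← Ideal.Quotient.eq_zero_iff_mem, map_mul]
      exact hkill _ (by rw [← Ideal.map_pow]; exact Ideal.mem_map_of_mem π hx)
    exact (hp.1.1.mem_or_mem (hp.1.2 hxe)).resolve_left fun h => he1 (hpn h)
  obtain rfl : p = n := le_antisymm hpn hnp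
  have h1 : p.height ≤ 1 :=
    Ideal.height_le_one_of_isPrincipal_of_mem_minimalPrimes (Ideal.span ({g} : Set B)) p hp
  have h2 : (2 : ℕ∞) ≤ p.height := by
    haveI : (⊥ : Ideal B).IsPrime := Ideal.isPrime_bot
    have a := Ideal.height_strict_mono_of_isPrime (bot_lt_iff_ne_bot.2 hbot)
    have b := Ideal.height_strict_mono_of_isPrime hlt
    have a1 : (1 : ℕ∞) ≤ I.height := Order.one_le_iff_pos.2 (lt_of_le_of_lt bot_le a)
    calc (2 : ℕ∞) = 1 + 1 := by norm_num
      _ ≤ I.height + 1 := by gcongr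
      _ ≤ p.height := Order.add_one_le_of_lt b
  exact absurd (h2.trans h1) (by norm_num)

theorem le_finrank_quot [IsDomain B] [IsNoetherianRing B] (n I : Ideal B) [n.IsPrime] [I.IsPrime] (hbot : I ≠ ⊥)
    (hlt : I < n) {g : B} (hg : g ∈ n) (m : ℕ) [Module.Finite k (B ⧸ (n ^ m ⊔ Ideal.span {g}))] :
    m ≤ Module.finrank k (B ⧸ (n ^ m ⊔ Ideal.span {g})) := by
  let J := n ^ m ⊔ Ideal.span {g}
  let q : B →ₗ[k] B ⧸ J := (Ideal.Quotient.mkₐ k J).toLinearMap
  let N : ℕ → Submodule k (B ⧸ J) := fun i => ((n ^ i ⊔ Ideal.span {g}).restrictScalars k).map q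
  have hstep : ∀ j, j ≤ m → j ≤ Module.finrank k (N (m - j)) := by
    intro j
    induction j with
    | zero => exact fun _ => Nat.zero_le _
    | succ j ih =>
      intro hj
      have hlt' : N (m - j) < N (m - (j + 1)) := by
        refine lt_of_le_of_ne (Submodule.map_mono ?_) fun he => ?_
        · rw [Submodule.restrictScalars_le]
          exact sup_le_sup_right (Ideal.pow_le_pow_right (by omega)) _
        · refine not_pow_le_pow_succ_sup n I hbot hlt hg (m - (j + 1)) fun x hx => ?_
          have hxN : q x ∈ N (m - (j + 1)) := ⟨x, Ideal.mem_sup_left hx, rfl⟩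
          rw [← he] at hxN
          obtain ⟨y, hy, hyx⟩ := hxN
          have hJ : J ≤ n ^ (m - j) ⊔ Ideal.span {g} := sup_le_sup_right (Ideal.pow_le_pow_right (by omega)) _
          rw [show m - (j + 1) + 1 = m - j by omega, ← add_sub_cancel y x]
          exact Ideal.add_mem _ hy (hJ (Ideal.Quotient.eq.1 (show Ideal.Quotient.mk J x = Ideal.Quotient.mk J y from hyx.symm)))
      have h1 := Submodule.finrank_lt_finrank_of_lt hlt'
      have h2 := ih (by omega)
      omega
  refine (hstep m le_rfl).trans (Submodule.finrank_le _)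

end Groth.Agent.LC17.SurfMult
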