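import Groth.Agent.LC17.SurfMult.Algebra
import Groth.Agent.LC17.BlowLB.CokerTwist
import Groth.Agent.An92.Lef.Points
import Groth.Agent.An92.Lef.Singular
import Groth.Agent.Crv77.TwistSection
import Groth.Agent.Crv77.DegreeInt
import Groth.Agent.Crv77.Hopf
import Groth.Agent.Crv77.PointDeg
import Groth.Agent.Crv77.PlaneCoh
import Groth.Agent.Var76.HopfSections
import Groth.Agent.Var76.RegPow
import Groth.Agent.Props58.PullTensor
import Groth.Agent.Curves2.CurveToolkit
import Groth.Agent.DR3.TopDegree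

/-! The degree of a curve on a surface is at least its multiplicity at any point. -/

set_option autoImplicit false
set_option backward.isDefEq.respectTransparency.types false

noncomputable section

universe u

open CategoryTheory CategoryTheory.Limits AlgebraicGeometry Opposite TopologicalSpace

namespace Groth.Agent.LC17.SurfMult

open Var76 (LineBundle.IsFrame LineBundle.res LineBundle.res_res LineBundle.res_smul)

variable {k : Type u} [Field k]

section Deg

variable {C : Scheme.{u}} [C.Over (Spec (CommRingCat.of k))] [IsIntegral C]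
  [IsProper (C ↘ Spec (CommRingCat.of k))]

/-- a section bounds the degree from below by the colength of its local equation -/
theorem le_deg_of_section (hdim : topologicalKrullDim ↥C ≤ 1) {L : C.Modules} (hL : PicF.IsInvertible L)
    {t : Γ(L, ⊤)} (ht : t ≠ 0) {U : C.Opens} (hU : IsAffineOpen U) {e : Γ(L, U)}
    (he : LineBundle.IsFrame L U e) {f : Γ(C, U)} (hf : f • e = LineBundle.res L le_top t) :
    letI : Algebra k Γ(C, U) := (Var76.BertiniScheme.const (k := k) C U).toAlgebra
    Module.Finite k (Γ(C, U) ⧸ Ideal.span {f}) ∧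
      (Module.finrank k (Γ(C, U) ⧸ Ideal.span {f}) : ℤ) ≤ Curv2.deg k C L 1 := by
  letI : Algebra k Γ(C, U) := (Var76.BertiniScheme.const (k := k) C U).toAlgebra
  haveI : IsNoetherian C := Crv77.isNoetherian_of_proper k C
  have hX := Crv77.curveCoh_of_proper k C hdim
  haveI : Mono (EGA73.unitHom L t) :=
    Var76.mono_unitHom_of_ne_zero (BlowLB.isFinLocFree_of_isInvertible hL) ht
  let S : Set C := ((Crv77.gl L t : C.Opens) : Set C)ᶜ
  have hne : ((Crv77.gl L t : C.Opens) : Set C).Nonempty := ⟨_, Crv77.genericPoint_mem_gl hL ht⟩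
  obtain ⟨hSfin, hScl⟩ := Crv77.finite_closed hdim hne
  let T := ShortComplex.mk (EGA73.unitHom L t) (cokernel.π _) (cokernel.condition _)
  have hT : T.ShortExact :=
    { exact := ShortComplex.exact_of_g_is_cokernel _ (cokernelIsCokernel _) }
  have hsupp : Crv77.SuppIn T.X₃ S := fun x hx => by
    have hfr := (Amp73.isFrame_iff_le_genLocus (Var76.Frames.ofSection L t) (Crv77.gl L t)).2 le_rfl
    rw [Var76.Frames.val_ofSection] at hfr
    exact BlowLB.subsingleton_stalk_coker t (by simpa [S] using hx) hfr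
  have hLc := Crv77.isCoh_of_isInvertible hL
  have hOc : Coh.IsCoh T.X₁ := Crv77.isCoh_structureModule
  have hQc : Coh.IsCoh T.X₃ := Crv77.isCoh_of_shortExact hT hOc hLc
  have hdeg : Curv2.deg k C L 1 = (Module.finrank k (Coh.HH C T.X₃ 0) : ℤ) := by
    have h1 := hX.euler_add hT hOc hLc
    rw [hX.euler_eq_of_suppIn hQc hsupp hSfin hScl] at h1
    simp only [Curv2.deg, Nat.cast_one, one_mul]
    change Curv2.euler k C L = Curv2.euler k C (Coh.structureModule C) + _ at h1
    rw [h1, add_sub_cancel_left]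
  let Q := T.X₃
  let r : Γ(Q, ⊤) →+ Γ(Q, U) := (Q.presheaf.map (homOfLE (le_top : U ≤ ⊤)).op).hom
  let π : Γ(C, U) → Γ(Q, U) := fun a => T.g.app U (a • e)
  let c0 : k →+* Γ(C, U) := (C.presheaf.map (homOfLE (le_top : U ≤ ⊤)).op).hom.comp
    (Coh.toGlobal (C ↘ Spec (CommRingCat.of k)))
  have hc0 : c0 = Var76.BertiniScheme.const (k := k) C U := rfl
  letI : Module k Γ(Q, U) := Module.compHom _ c0
  let H : Coh.HH C Q 0 →ₗ[k] Γ(Q, U) :=
    { toFun := fun v => r (Crv77.sec Q v)
      map_add' := fun v w => by rw [map_add, map_add]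
      map_smul' := fun c v => by
        rw [Crv77.sec_smul]
        exact Scheme.Modules.map_smul Q (homOfLE (le_top : U ≤ ⊤)) _ _ }
  have hHsurj : Function.Surjective H := fun s => by
    obtain ⟨s', hs'⟩ := hsupp.surjective_res hSfin hScl (le_top : U ≤ ⊤) s
    exact ⟨(Crv77.sec Q).symm s', by
      show r (Crv77.sec Q ((Crv77.sec Q).symm s')) = s
      rw [AddEquiv.apply_symm_apply]; exact hs'⟩
  haveI : Module.Finite k (Coh.HH C Q 0) := hX.finite Q hQc 0
  haveI : Module.Finite k Γ(Q, U) := Module.Finite.of_surjective H hHsurj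
  let ψ : Γ(C, U) →ₗ[k] Γ(Q, U) :=
    { toFun := π
      map_add' := fun a b => by
        show T.g.app U ((a + b) • e) = _
        rw [add_smul, map_add]
      map_smul' := fun c a => by
        show T.g.app U ((c0 c * a) • e) = c0 c • T.g.app U (a • e)
        rw [mul_smul, Scheme.Modules.Hom.app_smul] }
  have hker : LinearMap.ker ψ = (Ideal.span {f}).restrictScalars k := by
    ext a
    rw [LinearMap.mem_ker, Submodule.restrictScalars_mem, Ideal.mem_span_singleton']
    constructor
    · intro ha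
      obtain ⟨b, hb⟩ := QC70.exists_app_eq_of_exact T hT.exact U (a • e) ha
      change Γ(C, U) at b
      change (EGA73.unitHom L t).app U b = a • e at hb
      rw [EGA73.unitHom_app] at hb
      refine ⟨b, (he U le_rfl).1 ?_⟩
      show ((b : Γ(C, U)) * f) • LineBundle.res L le_rfl e = a • LineBundle.res L le_rfl e
      rw [Amp73.res_self, mul_smul, hf]
      exact hb
    · rintro ⟨b, rfl⟩
      show T.g.app U ((b * f) • e) = 0
      rw [mul_smul, hf]
      refine Eq.trans (congrArg (T.g.app U) (EGA73.unitHom_app L t U b).symm) ?_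
      exact congr((Scheme.Modules.Hom.app $(T.zero) U) b)
  let φ : (Γ(C, U) ⧸ Ideal.span {f}) →ₗ[k] Γ(Q, U) :=
    ((LinearMap.ker ψ).liftQ ψ le_rfl).comp
      ((Submodule.quotEquivOfEq _ _ hker).symm.toLinearMap.comp
        (Submodule.Quotient.restrictScalarsEquiv k (Ideal.span {f})).symm.toLinearMap)
  have hφ : Function.Injective φ := by
    exact (LinearMap.ker_eq_bot.1 (Submodule.ker_liftQ_eq_bot _ ψ le_rfl le_rfl)).comp
      ((Submodule.quotEquivOfEq _ _ hker).symm.injective.comp
        (Submodule.Quotient.restrictScalarsEquiv k (Ideal.span {f})).symm.injective)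
  refine ⟨Module.Finite.of_injective φ hφ, ?_⟩
  rw [hdeg]
  exact_mod_cast (LinearMap.finrank_le_finrank_of_injective hφ).trans (LinearMap.finrank_le_finrank_of_surjective hHsurj)

end Deg

/-- an affine open of a smooth surface over a field is not a curve -/
theorem two_le_topologicalKrullDim {S : Scheme.{u}} [Nonempty S] (f : S ⟶ Spec (CommRingCat.of k))
    [SmoothOfRelativeDimension 2 f] : (2 : WithBot ℕ∞) ≤ topologicalKrullDim ↥S := by
  obtain ⟨x⟩ := (inferInstance : Nonempty S)
  obtain ⟨V, hV, W, hW, hxW, e, hstd⟩ :=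
    SmoothOfRelativeDimension.exists_isStandardSmoothOfRelativeDimension (n := 2) (f := f) x
  obtain rfl : V = ⊤ := by
    refine top_le_iff.1 fun y _ => ?_
    rw [Subsingleton.elim (α := PrimeSpectrum k) y (f x)]
    exact e hxW
  letI := (f.appLE ⊤ W e).hom.toAlgebra
  let R := Γ(Spec (CommRingCat.of k), ⊤)
  have hR : IsField R :=
    DR3.isField_of_bijective (Scheme.ΓSpecIso (CommRingCat.of k)).symm.commRingCatIsoToRingEquiv
  letI : Field R := hR.toField
  haveI : Nonempty W := ⟨⟨x, hxW⟩⟩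
  haveI : Algebra.IsStandardSmoothOfRelativeDimension 2 R Γ(S, W) := hstd
  have h := DR3.le_ringKrullDim_of_standardSmooth R Γ(S, W) 2
  rw [← PrimeSpectrum.topologicalKrullDim_eq_ringKrullDim] at h
  exact h.trans (hW.fromSpec.isOpenEmbedding.isInducing.topologicalKrullDim_le)

section Form

variable {S C : Scheme.{u}} [S.Over (Spec (CommRingCat.of k))]
  [C.Over (Spec (CommRingCat.of k))] [IsIntegral C] [IsProper (C ↘ Spec (CommRingCat.of k))]
  {r : ℕ} (i : S ⟶ CohB1.ProjSpace r k) [IsClosedImmersion i]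
  (j : C ⟶ S) [IsClosedImmersion j]

theorem le_deg_form (hdim : topologicalKrullDim ↥C ≤ 1) (l : Fin (r + 1)) (G : LefPen.Form r k 1)
    (hne : (j.app (An92.Lef.piece i l)).hom (An92.Lef.pform i l G) ≠ 0) :
    letI : Algebra k Γ(C, j ⁻¹ᵁ An92.Lef.piece i l) :=
      (Var76.BertiniScheme.const (k := k) C (j ⁻¹ᵁ An92.Lef.piece i l)).toAlgebra
    Module.Finite k (Γ(C, j ⁻¹ᵁ An92.Lef.piece i l) ⧸
        Ideal.span {(j.app (An92.Lef.piece i l)).hom (An92.Lef.pform i l G)}) ∧
      (Module.finrank k (Γ(C, j ⁻¹ᵁ An92.Lef.piece i l) ⧸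
        Ideal.span {(j.app (An92.Lef.piece i l)).hom (An92.Lef.pform i l G)}) : ℤ) ≤
        Curv2.deg k C ((Scheme.Modules.pullback j).obj
          ((Scheme.Modules.pullback i).obj (Twist.twistProjSpace r k 1))) 1 := by
  let V : S.Opens := An92.Lef.piece i l
  let U : C.Opens := j ⁻¹ᵁ V
  have hU : IsAffineOpen U := (An92.Lef.isAffineOpen_piece i l).preimage j
  let φ : Γ(S, V) →+* Γ(C, U) := (j.app V).hom
  let g := An92.Lef.pform i l G
  let M := Twist.twistProjSpace r k ((1 : ℕ) : ℤ)
  let L := (Scheme.Modules.pullback j).obj ((Scheme.Modules.pullback i).obj M)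
  let e₀ : Γ(M, Var76.ProjCoord.U k r l) := Var76.Reg.pSec (k := k) l ((1 : ℕ) : ℤ) le_rfl
  let e : Γ(L, U) := Amp73.pullS j _ V (Amp73.pullS i M _ e₀)
  have he : LineBundle.IsFrame L U e :=
    Props58.PullTensor.isFrame_pullS j (Props58.PullTensor.isFrame_pullS i (Var76.Reg.isFrame_pSec l _))
  let t : Γ(L, ⊤) := Amp73.pullS j _ ⊤ (Amp73.pullS i M ⊤ (Twist.globalOf (CohB1.polyGrading r k) G))
  have hf : φ g • e = LineBundle.res L le_top t := by
    refine Eq.trans ?_ (Amp73.res_pullS j _ (le_top : V ≤ ⊤) _).symm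
    refine (Amp73.pullS_smul j _ V g _).symm.trans (congrArg (Amp73.pullS j _ V) ?_)
    refine Eq.trans ?_ (Amp73.res_pullS i M (le_top : Var76.ProjCoord.U k r l ≤ ⊤) _).symm
    refine (Amp73.pullS_smul i M _ (LefPen.dehom G l) _).symm.trans (congrArg (Amp73.pullS i M _) ?_)
    exact (Crv77.res_globalOf G l).symm
  have ht : t ≠ 0 := fun h0 => hne <| by
    have h1 : LineBundle.res L (le_top : U ≤ ⊤) (0 : Γ(L, ⊤)) = 0 := map_zero _
    rw [h0, h1] at hf
    exact (he U le_rfl).1 (a₁ := φ g) (a₂ := 0) (by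
      show φ g • LineBundle.res L le_rfl e = 0 • LineBundle.res L le_rfl e
      rw [Amp73.res_self, hf, zero_smul])
  exact le_deg_of_section (k := k) hdim
    (Amp73.isInvertible_pullback j (Amp73.isInvertible_pullback i (Var76.Reg.isInvertible_twist ((1 : ℕ) : ℤ))))
    ht hU he hf

end Form

theorem mult_le_deg [IsAlgClosed k] {S C : Scheme.{u}} [S.Over (Spec (CommRingCat.of k))]
    [C.Over (Spec (CommRingCat.of k))] [IsIntegral S] [IsIntegral C]
    [SmoothOfRelativeDimension 2 (S ↘ Spec (CommRingCat.of k))] {r : ℕ} (i : S ⟶ CohB1.ProjSpace r k)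
    [IsClosedImmersion i] (hi : i ≫ CohB1.ProjSpace.toSpec r k = S ↘ Spec (CommRingCat.of k))
    (hdimC : topologicalKrullDim ↥C = 1)
    (j : C ⟶ S) [IsClosedImmersion j] (hj : j ≫ (S ↘ Spec (CommRingCat.of k)) = C ↘ Spec (CommRingCat.of k))
    (P : ↥S) (hP : IsClosed ({P} : Set ↥S)) (m : ℕ)
    (hm : j.ker ≤ Scheme.IdealSheafData.vanishingIdeal ⟨{P}, hP⟩ ^ m) :
    (m : ℤ) ≤ Curv2.deg k C ((Scheme.Modules.pullback j).obj
      ((Scheme.Modules.pullback i).obj (Twist.twistProjSpace r k 1))) 1 := by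
  haveI : IsProper (CohB1.ProjSpace.toSpec r k) := Curves2.ProjLine.isProper_toSpec k r
  haveI : IsProper (S ↘ Spec (CommRingCat.of k)) := by rw [← hi]; infer_instance
  haveI : IsProper (C ↘ Spec (CommRingCat.of k)) := by rw [← hj]; infer_instance
  haveI : IsLocallyNoetherian S := LocallyOfFiniteType.isLocallyNoetherian (S ↘ Spec (CommRingCat.of k))
  rcases Nat.eq_zero_or_pos m with rfl | hm0
  · obtain ⟨l, hl⟩ := Var76.ProjCoord.exists_mem_U k r (i (j (genericPoint C)))
    haveI : Nonempty (j ⁻¹ᵁ An92.Lef.piece i l : C.Opens) := ⟨⟨genericPoint C, hl⟩⟩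
    have hX : An92.Lef.pform i l (⟨MvPolynomial.X l, LefPen.X_mem r k l⟩ : LefPen.Form r k 1) = 1 :=
      (An92.Lef.pform_X i l l).trans (An92.Lef.pcoord_self i l)
    obtain ⟨-, h⟩ := le_deg_form (k := k) i j hdimC.le l ⟨MvPolynomial.X l, LefPen.X_mem r k l⟩
      (by rw [hX, map_one]; exact one_ne_zero)
    exact le_trans (by simp) h
  -- the chart at `P`
  obtain ⟨l, hl⟩ := Var76.ProjCoord.exists_mem_U k r (i P)
  let V : S.Opens := An92.Lef.piece i l
  have hV : IsAffineOpen V := An92.Lef.isAffineOpen_piece i l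
  let U : C.Opens := j ⁻¹ᵁ V
  have hU : IsAffineOpen U := hV.preimage j
  let B := Γ(S, V)
  haveI : Nonempty V := ⟨⟨P, hl⟩⟩
  let n : Ideal B := (hV.primeIdealOf ⟨P, hl⟩).asIdeal
  haveI : n.IsMaximal := hV.primeIdealOf_isMaximal_of_isClosed ⟨P, hl⟩ hP
  let φ : B →+* Γ(C, U) := (j.app V).hom
  have hker : j.ker.ideal ⟨V, hV⟩ = RingHom.ker φ := Scheme.Hom.ker_apply j ⟨V, hV⟩
  have hφs : Function.Surjective φ := j.app_surjective V hV
  let I : Ideal B := RingHom.ker φ
  have hIn : I ≤ n ^ m := by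
    rw [show I = j.ker.ideal ⟨V, hV⟩ from hker.symm]
    refine (hm ⟨V, hV⟩).trans (le_of_eq ?_)
    rw [Scheme.IdealSheafData.ideal_pow, Pi.pow_apply]
    congr 1
    rw [Scheme.IdealSheafData.vanishingIdeal_ideal]
    have h2 : hV.fromSpec ⁻¹' ({P} : Set S) = {hV.primeIdealOf ⟨P, hl⟩} := by
      ext y
      simp only [Set.mem_singleton_iff, Set.mem_preimage]
      exact ⟨fun h => hV.fromSpec.isOpenEmbedding.injective (h.trans (hV.fromSpec_primeIdealOf ⟨P, hl⟩).symm),
        fun h => h ▸ hV.fromSpec_primeIdealOf ⟨P, hl⟩⟩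
    exact (congrArg PrimeSpectrum.vanishingIdeal h2).trans (PrimeSpectrum.vanishingIdeal_singleton _)
  -- the generators of `n`
  haveI : Algebra.FiniteType k B := ⟨Subalgebra.fg_def.2 ⟨_, Set.finite_range _, An92.Lef.adjoin_pcoord i l⟩⟩
  letI := Ideal.Quotient.field n
  haveI : Module.Finite k (B ⧸ n) := finite_of_finite_type_of_isJacobsonRing k _
  have hbij := IsAlgClosed.algebraMap_bijective_of_isIntegral (k := k) (K := B ⧸ n)
  choose c hc using fun a : Fin (r + 1) => hbij.2 (Ideal.Quotient.mk n (An92.Lef.pcoord i l a))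
  have hmem : ∀ a, An92.Lef.pcoord i l a - algebraMap k B (c a) ∈ n := fun a =>
    Ideal.Quotient.eq.1 (hc a).symm
  have hc1 : ∀ a, ∃ G : LefPen.Form r k 1, An92.Lef.pform i l G = An92.Lef.pcoord i l a - algebraMap k B (c a) := by
    intro a
    refine ⟨⟨MvPolynomial.X a - MvPolynomial.C (c a) * MvPolynomial.X l,
      (MvPolynomial.isHomogeneous_X k a).sub (MvPolynomial.IsHomogeneous.C_mul (MvPolynomial.isHomogeneous_X k l) _)⟩, ?_⟩
    rw [An92.Lef.pform_eq_aeval]
    simp [An92.Lef.pcoord_self]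
    rfl
  haveI : Nonempty U := by
    by_contra hne
    rw [not_nonempty_iff] at hne
    haveI := hne
    have hbot : U = ⊥ := by ext z; exact ⟨fun hz => hne.elim ⟨z, hz⟩, fun h => h.elim⟩
    haveI : Subsingleton Γ(C, U) := by rw [hbot]; infer_instance
    exact (‹n.IsMaximal›).ne_top (top_le_iff.1
      (le_trans (fun x _ => show x ∈ I from Subsingleton.elim _ _) (hIn.trans (Ideal.pow_le_self hm0.ne'))))
  haveI hIp : I.IsPrime := RingHom.ker_isPrime φ
  have hIn1 : I ≤ n := hIn.trans (Ideal.pow_le_self hm0.ne')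
  have hIne : I ≠ n := fun h => by
    have hF : IsField Γ(C, U) := ((RingHom.quotientKerEquivOfSurjective hφs).symm.toMulEquiv.isField
      ((Ideal.Quotient.maximal_ideal_iff_isField_quotient I).1 (h ▸ ‹n.IsMaximal›)))
    haveI : Subsingleton ↥U := by
      letI := hF.toField
      haveI : Subsingleton ↥(Spec Γ(C, U)) := (inferInstance : Subsingleton (PrimeSpectrum Γ(C, U)))
      exact (hU.isoSpec.hom.homeomorph).injective.subsingleton
    haveI : JacobsonSpace ↥C := LocallyOfFiniteType.jacobsonSpace (C ↘ Spec (CommRingCat.of k))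
    obtain ⟨⟨u, hu⟩⟩ := (inferInstance : Nonempty U)
    obtain ⟨z, hzU, hz⟩ := nonempty_inter_closedPoints (Z := (U : Set C)) ⟨u, hu⟩ U.2.isLocallyClosed
    have hη : genericPoint C ∈ U := (genericPoint_specializes u).mem_open U.2 hu
    obtain rfl : genericPoint C = z := congrArg Subtype.val (Subsingleton.elim (⟨_, hη⟩ : U) ⟨z, hzU⟩)
    haveI : Subsingleton ↥C := by
      refine ⟨fun a b => ?_⟩
      have hu : ({genericPoint C} : Set C) = Set.univ :=
        hz.closure_eq.symm.trans (genericPoint_spec C)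
      rw [(hu.ge (Set.mem_univ a) : a = genericPoint C), (hu.ge (Set.mem_univ b) : b = genericPoint C)]
    haveI : Subsingleton (TopologicalSpace.IrreducibleCloseds ↥C) := ⟨fun a b => by
      ext z
      obtain ⟨x, hx⟩ := a.isIrreducible.1
      obtain ⟨y, hy⟩ := b.isIrreducible.1
      exact iff_of_true (Subsingleton.elim x z ▸ hx) (Subsingleton.elim y z ▸ hy)⟩
    have h0 : topologicalKrullDim ↥C ≤ 0 := Order.krullDim_nonpos_of_subsingleton
    rw [hdimC] at h0
    exact absurd h0 (by norm_num)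
  have hIbot : I ≠ ⊥ := fun h => by
    let eφ : B ≃+* Γ(C, U) := RingEquiv.ofBijective φ ⟨(RingHom.injective_iff_ker_eq_bot φ).2 h, hφs⟩
    have h2 : (2 : WithBot ℕ∞) ≤ topologicalKrullDim ↥(V : Scheme.{u}) := by
      haveI : SmoothOfRelativeDimension (0 + 2) (V.ι ≫ S ↘ Spec (CommRingCat.of k)) :=
        smoothOfRelativeDimension_comp (n := 0) (m := 2) V.ι (S ↘ Spec (CommRingCat.of k))
      haveI : SmoothOfRelativeDimension 2 (V.ι ≫ S ↘ Spec (CommRingCat.of k)) := by simpa using this
      exact two_le_topologicalKrullDim (V.ι ≫ S ↘ Spec (CommRingCat.of k))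
    rw [(hV.isoSpec.hom.homeomorph).isHomeomorph.topologicalKrullDim_eq] at h2
    rw [show topologicalKrullDim ↥(Spec Γ(S, V)) = ringKrullDim B from PrimeSpectrum.topologicalKrullDim_eq_ringKrullDim _,
      ringKrullDim_eq_of_ringEquiv eφ, ← PrimeSpectrum.topologicalKrullDim_eq_ringKrullDim] at h2
    have h3 := h2.trans (hU.fromSpec.isOpenEmbedding.isInducing.topologicalKrullDim_le)
    rw [hdimC] at h3
    exact absurd h3 (by norm_num)
  obtain ⟨a, ha⟩ : ∃ a, An92.Lef.pcoord i l a - algebraMap k B (c a) ∉ I := by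
    by_contra hall
    push Not at hall
    refine hIne (le_antisymm hIn1 fun b hb => ?_)
    let χ : B →ₐ[k] B ⧸ I := Ideal.Quotient.mkₐ k I
    have hχ : ∀ b : B, ∃ x : k, b - algebraMap k B x ∈ I := fun b => by
      induction (show b ∈ Algebra.adjoin k (Set.range (An92.Lef.pcoord i l)) by
        rw [An92.Lef.adjoin_pcoord i l]; trivial) using Algebra.adjoin_induction with
      | mem b hb => obtain ⟨a, rfl⟩ := hb; exact ⟨c a, hall a⟩
      | algebraMap x => exact ⟨x, by rw [sub_self]; exact zero_mem _⟩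
      | add b b' _ _ hb hb' =>
        obtain ⟨x, hx⟩ := hb
        obtain ⟨x', hx'⟩ := hb'
        exact ⟨x + x', by rw [map_add, add_sub_add_comm]; exact add_mem hx hx'⟩
      | mul b b' _ _ hb hb' =>
        obtain ⟨x, hx⟩ := hb
        obtain ⟨x', hx'⟩ := hb'
        exact ⟨x * x', by
          rw [map_mul, show b * b' - algebraMap k B x * algebraMap k B x' =
            b * (b' - algebraMap k B x') + (b - algebraMap k B x) * algebraMap k B x' by ring]
          exact add_mem (I.mul_mem_left _ hx') (I.mul_mem_right _ hx)⟩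
    obtain ⟨x, hx⟩ := hχ b
    rcases eq_or_ne x 0 with rfl | hx0
    · rwa [map_zero, sub_zero] at hx
    · exfalso
      have : algebraMap k B x ∈ n := by simpa using n.sub_mem hb (hIn1 hx)
      exact (‹n.IsMaximal›).ne_top (Ideal.eq_top_of_isUnit_mem _ this ((IsUnit.mk0 x hx0).map _))
  obtain ⟨G, hG⟩ := hc1 a
  let g : B := An92.Lef.pform i l G
  have hgn : g ∈ n := by rw [show g = _ from hG]; exact hmem a
  have hgI : g ∉ I := by rw [show g = _ from hG]; exact ha
  letI : Algebra k Γ(C, U) := (Var76.BertiniScheme.const (k := k) C U).toAlgebra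
  have hcompat : ∀ x : k, φ (algebraMap k B x) = algebraMap k Γ(C, U) x := by
    intro x
    have h1 : algebraMap k B x = Var76.BertiniScheme.const (k := k) S V x := by
      show (Scheme.Hom.appLE (i ≫ CohB1.ProjSpace.toSpec r k) ⊤ V _) _ = _
      simp only [hi]
      rfl
    rw [h1]
    exact An92.Lef.app_const' j hj V x
  obtain ⟨hfin, hle⟩ := le_deg_form (k := k) i j hdimC.le l G fun h => hgI (RingHom.mem_ker.2 h)
  haveI := hfin
  let J := n ^ m ⊔ Ideal.span ({g} : Set B)
  let φk : B →ₐ[k] Γ(C, U) := { φ with commutes' := hcompat }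
  let q : B →ₐ[k] Γ(C, U) ⧸ Ideal.span {φ g} := (Ideal.Quotient.mkₐ k _).comp φk
  have hqs : Function.Surjective q := Ideal.Quotient.mk_surjective.comp hφs
  have hqJ : RingHom.ker q ≤ J := fun b hb => by
    obtain ⟨a', ha'⟩ := Ideal.mem_span_singleton'.1 (Ideal.Quotient.eq_zero_iff_mem.1 (RingHom.mem_ker.1 hb))
    obtain ⟨a, rfl⟩ := hφs a'
    rw [show b = (b - a * g) + a * g by ring]
    refine add_mem (Ideal.mem_sup_left (hIn (RingHom.mem_ker.2 ?_)))
      (Ideal.mem_sup_right (Ideal.mem_span_singleton'.2 ⟨a, rfl⟩))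
    rw [map_sub, map_mul]
    exact sub_eq_zero.2 ha'.symm
  let ψ : (Γ(C, U) ⧸ Ideal.span {φ g}) →ₗ[k] B ⧸ J :=
    (Ideal.Quotient.factorₐ k hqJ).toLinearMap.comp
      (Ideal.quotientKerAlgEquivOfSurjective hqs).symm.toLinearMap
  have hψ : Function.Surjective ψ :=
    (Ideal.Quotient.factor_surjective hqJ).comp (Ideal.quotientKerAlgEquivOfSurjective hqs).symm.surjective
  haveI : Module.Finite k (B ⧸ J) := Module.Finite.of_surjective ψ hψ
  haveI : IsNoetherianRing B := Algebra.FiniteType.isNoetherianRing k B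
  have h := le_finrank_quot (k := k) n I hIbot (lt_of_le_of_ne hIn1 hIne) hgn m
  exact le_trans (by exact_mod_cast h.trans (LinearMap.finrank_le_finrank_of_surjective hψ)) hle

end Groth.Agent.LC17.SurfMult
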